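import Groth.Agent.ModSiteExt.Consequences
import Groth.Agent.ModSiteTensor.Colimit
import Groth.Agent.ModSiteFlat.Criterion
import Groth.Agent.KFlat.Assoc

/-!
Elements of tensor products and of internal homs of sheaves of modules on a ringed site: pure
tensors, the evaluation pairing, and sections of the internal hom as maps of restricted modules.
-/

set_option backward.isDefEq.respectTransparency false
set_option backward.isDefEq.respectTransparency.types false
set_option linter.style.haveILetI false
set_option autoImplicit false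
set_option linter.unusedSectionVars false
set_option maxHeartbeats 1000000

universe u

open CategoryTheory Category Limits Opposite TensorProduct
open MonoidalCategory (tensorObj whiskerRight)

namespace Groth.Agent.ModHomEl

open Groth.Agent.ModSiteFlat (rmap rmap_comp rmap_smul)

attribute [local instance] ModSiteFlat.instModuleSect

variable {C : Type u} [SmallCategory C] {J : GrothendieckTopology C} {O : Sheaf J CommRingCat.{u}}

variable (M N : ModSite.Mod O)

/-- the tensor product of the underlying presheaves -/
noncomputable abbrev pten : ModSiteExt.PM O.obj :=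
  tensorObj (C := ModSiteExt.PM O.obj) ((ModSiteExt.toPM O).obj M) ((ModSiteExt.toPM O).obj N)

/-- the tensor product -/
noncomputable abbrev ten : ModSite.Mod O := ((ModSite.tensorBi O).obj M).obj N

variable {M N}

/-- pure tensors -/
noncomputable def tm {U : C} (m : ModSite.sect M U) (n : ModSite.sect N U) : ModSite.sect (ten M N) U :=
  (ModSiteTensor.η O (pten M N)).app (op U) (m ⊗ₜ[(O.obj.obj (op U) : Type u)] n)

lemma tm_add_left {U : C} (m m' : ModSite.sect M U) (n : ModSite.sect N U) :
    tm (m + m') n = tm m n + tm m' n :=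
  (congrArg _ (add_tmul (R := (O.obj.obj (op U) : Type u)) m m' n)).trans (map_add _ _ _)

lemma tm_add_right {U : C} (m : ModSite.sect M U) (n n' : ModSite.sect N U) :
    tm m (n + n') = tm m n + tm m n' :=
  (congrArg _ (tmul_add (R := (O.obj.obj (op U) : Type u)) m n n')).trans (map_add _ _ _)

lemma tm_smul_left {U : C} (a : O.obj.obj (op U)) (m : ModSite.sect M U) (n : ModSite.sect N U) :
    tm (a • m) n = a • tm m n :=
  (congrArg _ (smul_tmul' (R := (O.obj.obj (op U) : Type u)) a m n).symm).trans
    (((ModSiteTensor.η O (pten M N)).app (op U)).hom.map_smul a _)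

lemma tm_smul_right {U : C} (a : O.obj.obj (op U)) (m : ModSite.sect M U) (n : ModSite.sect N U) :
    tm m (a • n) = a • tm m n :=
  (congrArg _ (tmul_smul (R := (O.obj.obj (op U) : Type u)) a m n)).trans
    (((ModSiteTensor.η O (pten M N)).app (op U)).hom.map_smul a _)

lemma tm_zero_left {U : C} (n : ModSite.sect N U) : tm (0 : ModSite.sect M U) n = 0 :=
  (congrArg _ (zero_tmul (R := (O.obj.obj (op U) : Type u)) (ModSite.sect M U) n)).trans (map_zero _)

lemma tm_zero_right {U : C} (m : ModSite.sect M U) : tm m (0 : ModSite.sect N U) = 0 :=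
  (congrArg _ (tmul_zero (R := (O.obj.obj (op U) : Type u)) (ModSite.sect N U) m)).trans (map_zero _)

lemma tm_sum_left {U : C} {κ : Type*} (s : Finset κ) (m : κ → ModSite.sect M U) (n : ModSite.sect N U) :
    tm (∑ k ∈ s, m k) n = ∑ k ∈ s, tm (m k) n :=
  map_sum (AddMonoidHom.mk' (fun x => tm x n) fun a b => tm_add_left a b n) m s

lemma tm_sum_right {U : C} {κ : Type*} (s : Finset κ) (m : ModSite.sect M U) (n : κ → ModSite.sect N U) :
    tm m (∑ k ∈ s, n k) = ∑ k ∈ s, tm m (n k) :=
  map_sum (AddMonoidHom.mk' (fun y => tm m y) fun a b => tm_add_right m a b) n s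

lemma rmap_tm {U V : C} (g : V ⟶ U) (m : ModSite.sect M U) (n : ModSite.sect N U) :
    rmap (ten M N) g (tm m n) = tm (rmap M g m) (rmap N g n) :=
  (PresheafOfModules.naturality_apply (ModSiteTensor.η O (pten M N)) g.op
    (m ⊗ₜ[(O.obj.obj (op U) : Type u)] n)).symm

section Pairing

variable (F : ModSite.Mod O) [ModSite.HasSheafHom F] (G : ModSite.Mod O)

/-- the internal hom -/
noncomputable abbrev hom : ModSite.Mod O := (ModSite.sheafHom F).obj G

/-- the evaluation map -/
noncomputable def evMap : ten (hom F G) F ⟶ G := (ModSite.sheafHomAdj F).counit.app G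

variable {F G}

/-- evaluation of a section of the internal hom -/
noncomputable def ev {U : C} (s : ModSite.sect (hom F G) U) (x : ModSite.sect F U) : ModSite.sect G U :=
  (evMap F G).val.app (op U) (tm s x)

lemma ev_add_left {U : C} (s t : ModSite.sect (hom F G) U) (x : ModSite.sect F U) :
    ev (s + t) x = ev s x + ev t x :=
  (congrArg _ (tm_add_left s t x)).trans (map_add _ _ _)

lemma ev_add_right {U : C} (s : ModSite.sect (hom F G) U) (x y : ModSite.sect F U) :
    ev s (x + y) = ev s x + ev s y :=
  (congrArg _ (tm_add_right s x y)).trans (map_add _ _ _)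

lemma ev_smul_left {U : C} (a : O.obj.obj (op U)) (s : ModSite.sect (hom F G) U) (x : ModSite.sect F U) :
    ev (a • s) x = a • ev s x :=
  (congrArg _ (tm_smul_left a s x)).trans
    (((evMap F G).val.app (op U)).hom.map_smul a _)

lemma ev_smul_right {U : C} (a : O.obj.obj (op U)) (s : ModSite.sect (hom F G) U) (x : ModSite.sect F U) :
    ev s (a • x) = a • ev s x :=
  (congrArg _ (tm_smul_right a s x)).trans
    (((evMap F G).val.app (op U)).hom.map_smul a _)

lemma ev_zero_left {U : C} (x : ModSite.sect F U) : ev (0 : ModSite.sect (hom F G) U) x = 0 :=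
  (congrArg _ (tm_zero_left x)).trans (map_zero _)

lemma ev_sum_left {U : C} {κ : Type*} (t : Finset κ) (s : κ → ModSite.sect (hom F G) U) (x : ModSite.sect F U) :
    ev (∑ k ∈ t, s k) x = ∑ k ∈ t, ev (s k) x :=
  map_sum (AddMonoidHom.mk' (fun y => ev y x) fun a b => ev_add_left a b x) s t

lemma rmap_ev {U V : C} (g : V ⟶ U) (s : ModSite.sect (hom F G) U) (x : ModSite.sect F U) :
    rmap G g (ev s x) = ev (rmap (hom F G) g s) (rmap F g x) :=
  (PresheafOfModules.naturality_apply (evMap F G).val g.op (tm s x)).symm.trans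
    (congrArg _ (rmap_tm g s x))

end Pairing

section Corep

variable {U : C}

/-- the free presheaf on `U` -/
noncomputable abbrev fy (U : C) : ModSiteExt.PM O.obj :=
  (PresheafOfModules.free (ModSite.ringSh O).obj).obj (yoneda.obj U)

/-- the element of the free presheaf attached to an arrow -/
noncomputable abbrev fgen {V : C} (g : V ⟶ U) : (fy (O := O) U).obj (op V) :=
  Finsupp.single g (1 : (O.obj.obj (op V) : Type u))

lemma app_fgen {P : PresheafOfModules.{u} (ModSite.ringSh O).obj} (ψ : (fy (O := O) U) ⟶ P) {V : C} (g : V ⟶ U) :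
    ψ.app (op V) (fgen g) = P.map g.op (PresheafOfModules.freeYonedaEquiv ψ) := by
  have hnat := NatTrans.naturality_apply (PresheafOfModules.freeHomEquiv ψ) g.op (𝟙 U)
  have hid : (yoneda.obj U).map g.op (𝟙 U) = g := comp_id g
  rw [hid] at hnat
  exact hnat

variable (F : ModSite.Mod O) [ModSite.HasSheafHom F] (G : ModSite.Mod O)

/-- the free presheaf tensored with `F` -/
noncomputable abbrev fyF (U : C) : ModSiteExt.PM O.obj :=
  tensorObj (C := ModSiteExt.PM O.obj) (fy (O := O) U) ((ModSiteExt.toPM O).obj F)

lemma isIso_uP (U : C) : IsIso ((ModSiteExt.Sh O).map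
    (whiskerRight (C := ModSiteExt.PM O.obj) (ModSiteTensor.η O (fy (O := O) U)) ((ModSiteExt.toPM O).obj F))) :=
  @ModSiteTensor.isIso_sheafify_map_whiskerRight _ _ _ _ _ _ (ModSiteTensor.η O (fy (O := O) U))
    (ModSiteTensor.unit_locallyInjective O _) (ModSiteTensor.unit_locallySurjective O _) _

/-- sections of the internal hom corepresented by tensors with a free presheaf -/
noncomputable def secPre (U : C) : ModSite.sect (hom F G) U ≃ (fyF F U ⟶ (ModSiteExt.toPM O).obj G) :=
  haveI := isIso_uP F U
  ((((ModSiteFree.freeSheafifyCorep O U).homEquiv (Y := hom F G)).symm.trans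
      (((ModSite.sheafHomAdj F).homEquiv ((ModSiteExt.Sh O).obj (fy (O := O) U)) G).symm)).trans
    (asIso ((ModSiteExt.Sh O).map (whiskerRight (C := ModSiteExt.PM O.obj)
      (ModSiteTensor.η O (fy (O := O) U)) ((ModSiteExt.toPM O).obj F)))).symm.homFromEquiv).trans
    ((PresheafOfModules.sheafificationAdjunction.{u} (R := ModSite.ringSh O)
      (𝟙 (ModSite.ringSh O).obj)).homEquiv (fyF F U) G)

variable {F G}

lemma secPre_app (s : ModSite.sect (hom F G) U) {V : C} (g : V ⟶ U) (x : ModSite.sect F V) :
    (secPre F G U s).app (op V) (fgen g ⊗ₜ[(O.obj.obj (op V) : Type u)] x) =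
      ev (rmap (hom F G) g s) x := by
  let P := fy (O := O) U
  let F₀ := (ModSiteExt.toPM O).obj F
  let adj := PresheafOfModules.sheafificationAdjunction.{u} (R := ModSite.ringSh O) (𝟙 (ModSite.ringSh O).obj)
  let σ : (ModSiteExt.Sh O).obj P ⟶ hom F G :=
    ((ModSiteFree.freeSheafifyCorep O U).homEquiv (Y := hom F G)).symm s
  let ε := evMap F G
  have hform : secPre F G U s =
      whiskerRight (C := ModSiteExt.PM O.obj) (ModSiteTensor.η O P) F₀ ≫
        whiskerRight (C := ModSiteExt.PM O.obj) ((ModSiteExt.toPM O).map σ) F₀ ≫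
          ModSiteTensor.η O (pten (hom F G) F) ≫ (ModSiteExt.toPM O).map ε := by
    have h1 : secPre F G U s = ModSiteTensor.η O (fyF F U) ≫ (ModSiteExt.toPM O).map
        ((ModSiteExt.Sh O).map (whiskerRight (C := ModSiteExt.PM O.obj) (ModSiteTensor.η O P) F₀) ≫
          ((ModSite.sheafHomAdj F).homEquiv ((ModSiteExt.Sh O).obj P) G).symm σ) :=
      Adjunction.homEquiv_unit (adj := adj) _ _ _
    refine h1.trans ?_
    rw [(ModSite.sheafHomAdj F).homEquiv_counit, Functor.map_comp, Functor.map_comp]
    have h2 := KFlat.unit_natural O (whiskerRight (C := ModSiteExt.PM O.obj) (ModSiteTensor.η O P) F₀)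
    refine (reassoc_of% h2) _ |>.trans ?_
    refine congrArg _ ?_
    exact (reassoc_of% (KFlat.unit_natural O
      (whiskerRight (C := ModSiteExt.PM O.obj) ((ModSiteExt.toPM O).map σ) F₀))) _
  rw [hform]
  change ε.val.app (op V) ((ModSiteTensor.η O (pten (hom F G) F)).app (op V)
    (σ.val.app (op V) ((ModSiteTensor.η O P).app (op V) (fgen g)) ⊗ₜ[(O.obj.obj (op V) : Type u)] x)) = _
  have hσ : σ.val.app (op V) ((ModSiteTensor.η O P).app (op V) (fgen g)) = rmap (hom F G) g s := by
    have e := app_fgen (adj.homEquiv P (hom F G) σ) g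
    refine Eq.trans ?_ (e.trans (congrArg _ (Equiv.apply_symm_apply
      (ModSiteFree.freeSheafifyCorep O U).homEquiv s)))
    exact (congrArg (fun ψ => ψ.app (op V) (fgen g)) (Adjunction.homEquiv_unit (adj := adj) P (hom F G) σ)).symm
  rw [hσ]
  rfl

lemma fyF_hom_ext {Q : ModSiteExt.PM O.obj} (φ ψ : fyF F U ⟶ Q)
    (h : ∀ {V : C} (g : V ⟶ U) (x : ModSite.sect F V),
      φ.app (op V) (fgen g ⊗ₜ[(O.obj.obj (op V) : Type u)] x) =
        ψ.app (op V) (fgen g ⊗ₜ[(O.obj.obj (op V) : Type u)] x)) : φ = ψ := by
  refine PresheafOfModules.hom_ext fun ⟨V⟩ => ?_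
  refine ModuleCat.hom_ext (TensorProduct.ext' fun p x => ?_)
  change (V ⟶ U) →₀ (O.obj.obj (op V) : Type u) at p
  induction p using Finsupp.induction_linear with
  | zero =>
    refine ((congrArg _ (zero_tmul (R := (O.obj.obj (op V) : Type u)) _ x)).trans (map_zero _)).trans ?_
    exact ((congrArg _ (zero_tmul (R := (O.obj.obj (op V) : Type u)) _ x)).trans (map_zero _)).symm
  | add p q hp hq =>
    refine ((congrArg _ (add_tmul (R := (O.obj.obj (op V) : Type u)) p q x)).trans (map_add _ _ _)).trans ?_
    refine Eq.trans ?_ ((congrArg _ (add_tmul (R := (O.obj.obj (op V) : Type u)) p q x)).trans (map_add _ _ _)).symm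
    exact congrArg₂ (· + ·) hp hq
  | single g a =>
    have hg : Finsupp.single g a = a • Finsupp.single g (1 : (O.obj.obj (op V) : Type u)) := by simp
    rw [hg]
    refine ((congrArg _ (smul_tmul' (R := (O.obj.obj (op V) : Type u)) a _ x).symm).trans
      ((φ.app (op V)).hom.map_smul a _)).trans ?_
    refine Eq.trans ?_ ((congrArg _ (smul_tmul' (R := (O.obj.obj (op V) : Type u)) a _ x).symm).trans
      ((ψ.app (op V)).hom.map_smul a _)).symm
    exact congrArg (a • ·) (h g x)

/-- sections of the internal hom are determined by their values -/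
theorem hom_sect_ext {s t : ModSite.sect (hom F G) U}
    (h : ∀ {V : C} (g : V ⟶ U) (x : ModSite.sect F V),
      ev (rmap (hom F G) g s) x = ev (rmap (hom F G) g t) x) : s = t :=
  (secPre F G U).injective (fyF_hom_ext _ _ fun g x => by rw [secPre_app, secPre_app, h g x])

/-- values of a map of restricted modules -/
noncomputable abbrev appAt (a : (ModSite.restr O U).obj F ⟶ (ModSite.restr O U).obj G) {V : C} (g : V ⟶ U)
    (x : ModSite.sect F V) : ModSite.sect G V :=
  a.val.app (op (Over.mk g)) x

lemma rmap_appAt (a : (ModSite.restr O U).obj F ⟶ (ModSite.restr O U).obj G) {V W : C} (g : V ⟶ U)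
    (k : W ⟶ V) (g' : W ⟶ U) (hk : k ≫ g = g') (x : ModSite.sect F V) :
    rmap G k (appAt a g x) = appAt a g' (rmap F k x) :=
  (PresheafOfModules.naturality_apply a.val (Over.homMk k hk : Over.mk g' ⟶ Over.mk g).op x).symm

/-- bilinear form of a map of restricted modules -/
noncomputable def bilAt (a : (ModSite.restr O U).obj F ⟶ (ModSite.restr O U).obj G) (V : C) :
    ((V ⟶ U) →₀ (O.obj.obj (op V) : Type u)) →ₗ[(O.obj.obj (op V) : Type u)]
      ModSite.sect F V →ₗ[(O.obj.obj (op V) : Type u)] ModSite.sect G V :=
  Finsupp.linearCombination (O.obj.obj (op V) : Type u) fun g : V ⟶ U =>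
    { toFun := appAt a g
      map_add' := (a.val.app (op (Over.mk g))).hom.map_add
      map_smul' := (a.val.app (op (Over.mk g))).hom.map_smul }

lemma bilAt_single (a : (ModSite.restr O U).obj F ⟶ (ModSite.restr O U).obj G) {V : C} (g : V ⟶ U)
    (x : ModSite.sect F V) : bilAt a V (Finsupp.single g 1) x = appAt a g x := by
  rw [bilAt, Finsupp.linearCombination_single, one_smul]
  rfl

lemma fy_map_fgen {V W : C} (k : W ⟶ V) (g : V ⟶ U) :
    (fy (O := O) U).map k.op (fgen g) = fgen (k ≫ g) :=
  ModuleCat.freeDesc_apply _ g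

lemma rmap_bilAt (a : (ModSite.restr O U).obj F ⟶ (ModSite.restr O U).obj G) {V W : C} (k : W ⟶ V)
    (p : (fy (O := O) U).obj (op V)) (x : ModSite.sect F V) :
    rmap G k (bilAt a V p x) =
      bilAt a W ((fy (O := O) U).map k.op p) (rmap F k x) := by
  change (V ⟶ U) →₀ (O.obj.obj (op V) : Type u) at p
  induction p using Finsupp.induction_linear with
  | zero =>
    refine ((congrArg (rmap G k) (LinearMap.congr_fun (map_zero (bilAt a V)) x)).trans (map_zero _)).trans ?_
    exact (LinearMap.congr_fun ((congrArg (bilAt a W) (map_zero ((fy (O := O) U).map k.op).hom)).trans (map_zero _)) _).symm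
  | add p q hp hq =>
    refine ((congrArg (rmap G k) (LinearMap.congr_fun (map_add (bilAt a V) p q) x)).trans (map_add _ _ _)).trans ?_
    refine Eq.trans ?_ (LinearMap.congr_fun
      ((congrArg (bilAt a W) (map_add ((fy (O := O) U).map k.op).hom p q)).trans (map_add _ _ _)) _).symm
    exact congrArg₂ (· + ·) hp hq
  | single g r =>
    have hg : (Finsupp.single g r : (V ⟶ U) →₀ (O.obj.obj (op V) : Type u)) =
        r • Finsupp.single g (1 : (O.obj.obj (op V) : Type u)) := by simp
    rw [hg]
    refine ((congrArg (rmap G k) (LinearMap.congr_fun (map_smul (bilAt a V) r _) x)).trans (rmap_smul G k r _)).trans ?_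
    refine Eq.trans ?_ (LinearMap.congr_fun
      ((congrArg (bilAt a W) ((fy (O := O) U).map_smul k.op r _)).trans
        (map_smul (bilAt a W) ((O.obj.map k.op).hom r) _)) _).symm
    refine congrArg ((O.obj.map k.op).hom r • ·) ?_
    rw [bilAt_single, rmap_appAt a g k (k ≫ g) rfl]
    refine (bilAt_single a (k ≫ g) (rmap F k x)).symm.trans ?_
    refine (LinearMap.congr_fun (congrArg (bilAt a W) ?_) _)
    exact (fy_map_fgen k g).symm

/-- every map of restricted modules is given by a section of the internal hom -/
theorem exists_sect (a : (ModSite.restr O U).obj F ⟶ (ModSite.restr O U).obj G) :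
    ∃ s : ModSite.sect (hom F G) U, ∀ {V : C} (g : V ⟶ U) (x : ModSite.sect F V),
      ev (rmap (hom F G) g s) x = appAt a g x := by
  let Φ : fyF F U ⟶ (ModSiteExt.toPM O).obj G := PresheafOfModules.homMk
    { app := fun V => AddCommGrpCat.ofHom (TensorProduct.lift (bilAt a V.unop)).toAddMonoidHom
      naturality := fun V W k => AddCommGrpCat.ext fun z => by
        change ((V.unop ⟶ U) →₀ (O.obj.obj V : Type u)) ⊗[(O.obj.obj V : Type u)] ModSite.sect F V.unop at z
        induction z using TensorProduct.induction_on with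
        | zero =>
          simp only [ConcreteCategory.comp_apply]
          exact ((congrArg _ (map_zero _)).trans (map_zero _)).trans
            ((congrArg _ (map_zero _)).trans (map_zero _)).symm
        | tmul p x => exact (rmap_bilAt a k.unop p x).symm
        | add z z' hz hz' =>
          simp only [ConcreteCategory.comp_apply] at hz hz' ⊢
          erw [map_add, map_add, map_add, map_add]
          exact congrArg₂ (· + ·) hz hz' }
    fun V r z => map_smul (TensorProduct.lift (bilAt a V.unop)) r z
  refine ⟨(secPre F G U).symm Φ, fun {V} g x => ?_⟩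
  refine (secPre_app _ g x).symm.trans ?_
  rw [Equiv.apply_symm_apply]
  exact (TensorProduct.lift.tmul (R := (O.obj.obj (op V) : Type u)) _ x).trans (bilAt_single a g x)

/-- a section of the internal hom as a map of restricted modules -/
noncomputable def toMor (s : ModSite.sect (hom F G) U) : (ModSite.restr O U).obj F ⟶ (ModSite.restr O U).obj G :=
  ⟨PresheafOfModules.homMk
    { app := fun V => AddCommGrpCat.ofHom (AddMonoidHom.mk'
        (fun x : ModSite.sect F V.unop.left => ev (F := F) (G := G) (rmap (hom F G) V.unop.hom s) x)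
        fun x y => ev_add_right (F := F) (G := G) (rmap (hom F G) V.unop.hom s) x y)
      naturality := fun V W k => AddCommGrpCat.ext fun x => by
        change ev (F := F) (G := G) (rmap (hom F G) W.unop.hom s) (rmap F k.unop.left x) =
          rmap G k.unop.left (ev (F := F) (G := G) (rmap (hom F G) V.unop.hom s) x)
        rw [rmap_ev, ← rmap_comp, Over.w] }
    fun V r x => ev_smul_right (F := F) (G := G) r _ x⟩

lemma appAt_toMor (s : ModSite.sect (hom F G) U) {V : C} (g : V ⟶ U) (x : ModSite.sect F V) :
    appAt (toMor s) g x = ev (rmap (hom F G) g s) x := rfl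

end Corep

end Groth.Agent.ModHomEl
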