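import Groth.Agent.ModHomEl.Basic
import Groth.Agent.PullFlat.Tensor

/-!
Local normal forms of sections of a tensor product with a flat module.
-/

set_option backward.isDefEq.respectTransparency false
set_option backward.isDefEq.respectTransparency.types false
set_option linter.style.haveILetI false
set_option autoImplicit false
set_option maxHeartbeats 1000000

universe u

open CategoryTheory Category Limits Opposite TensorProduct
open MonoidalCategory (tensorObj)

namespace Groth.Agent.ModHomEl

open Groth.Agent.ModSiteFlat (rmap rmap_comp rmap_smul rmap_sum_smul)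

attribute [local instance] ModSiteFlat.instModuleSect

variable {C : Type u} [SmallCategory C] {J : GrothendieckTopology C} {O : Sheaf J CommRingCat.{u}}
  {M N : ModSite.Mod O}

/-- every section of a tensor product is locally a sum of pure tensors -/
theorem exists_sum_tm {U : C} (z : ModSite.sect (ten M N) U) :
    ∃ S ∈ J U, ∀ ⦃V : C⦄ (g : V ⟶ U), S g → ∃ (n : ℕ) (m : Fin n → ModSite.sect M V)
      (h : Fin n → ModSite.sect N V), rmap (ten M N) g z = ∑ k, tm (m k) (h k) := by
  haveI := ModSiteTensor.unit_locallySurjective O (pten M N)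
  refine ⟨_, Presheaf.imageSieve_mem J ((PresheafOfModules.toPresheaf _).map (ModSiteTensor.η O (pten M N)))
    (U := op U) z, fun V g hg => ?_⟩
  obtain ⟨p, hp⟩ := hg
  obtain ⟨n, m, h, hmh⟩ : ∃ (n : ℕ) (m : Fin n → ModSite.sect M V) (h : Fin n → ModSite.sect N V),
      (show ModSite.sect M V ⊗[(O.obj.obj (op V) : Type u)] ModSite.sect N V from p) =
        ∑ k, m k ⊗ₜ[(O.obj.obj (op V) : Type u)] h k := TensorProduct.exists_sum_tmul_eq _
  refine ⟨n, m, h, hp.symm.trans ?_⟩
  exact (congrArg _ hmh).trans (map_sum ((ModSiteTensor.η O (pten M N)).app (op V)).hom _ _)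

/-- an identity of presheaf tensors over `U` in a flat module is locally a consequence of linear relations -/
lemma exists_relation_of_tmul_eq_zero (hN : ModSite.IsFlat N) {U : C} {κ : Type} [Fintype κ]
    (m : κ → ModSite.sect M U) (h : κ → ModSite.sect N U)
    (h0 : ∑ k, m k ⊗ₜ[(O.obj.obj (op U) : Type u)] h k = 0) :
    ∃ S ∈ J U, ∀ ⦃V : C⦄ (g : V ⟶ U), S g → ∃ (r : ℕ) (t : Fin r → ModSite.sect N V)
      (c : κ → Fin r → O.obj.obj (op V)), (∀ k, rmap N g (h k) = ∑ l, c k l • t l) ∧
        ∀ l, ∑ k, c k l • rmap M g (m k) = 0 := by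
  classical
  let A := (O.obj.obj (op U) : Type u)
  let G : ((ModSite.sect M U) →₀ A) →ₗ[A] ModSite.sect M U := Finsupp.linearCombination A id
  let z' : ((ModSite.sect M U) →₀ A) ⊗[A] (ModSite.sect N U) := ∑ i, Finsupp.single (m i) 1 ⊗ₜ[A] h i
  have hG : G.rTensor (ModSite.sect N U) z' = 0 := by
    refine Eq.trans ?_ h0
    simp [z', G]
    rfl
  have hGs : Function.Surjective G := fun x => ⟨Finsupp.single x 1, by simp [G]⟩
  let ι : LinearMap.ker G →ₗ[A] ((ModSite.sect M U) →₀ A) := (LinearMap.ker G).subtype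
  have hex : Function.Exact ι G := LinearMap.exact_subtype_ker_map G
  obtain ⟨w, hw⟩ := (@rTensor_exact A (LinearMap.ker G) ((ModSite.sect M U) →₀ A) (ModSite.sect M U) _ _ _ _ _ _ _ ι G (ModSite.sect N U) _ _ hex hGs z').mp hG
  obtain ⟨q, k, y, hky⟩ : ∃ (q : ℕ) (k : Fin q → LinearMap.ker G) (y : Fin q → ModSite.sect N U),
      w = ∑ e, k e ⊗ₜ[A] y e := TensorProduct.exists_sum_tmul_eq w
  let Y : κ ⊕ Fin q → ModSite.sect N U := Sum.elim h y
  let B : ModSite.sect M U → κ ⊕ Fin q → A :=
    fun x => Sum.elim (fun i => Finsupp.single (m i) (1 : A) x) (fun e => -(k e).1 x)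
  let T : Finset (ModSite.sect M U) :=
    (Finset.univ.image fun i => m i) ∪ Finset.univ.biUnion fun e => (k e).1.support
  have hrel : ∀ x ∈ T, ∑ j, B x j • Y j = 0 := fun x _ => by
    have hev := congrArg (fun v => TensorProduct.finsuppScalarLeft A (ModSite.sect N U) (ModSite.sect M U) v x) hw
    simp only [hky, z', map_sum, LinearMap.rTensor_tmul, Finsupp.finset_sum_apply,
      TensorProduct.finsuppScalarLeft_apply_tmul_apply, ι, Submodule.subtype_apply] at hev
    simp only [Fintype.sum_sum_type, B, Y, Sum.elim_inl, Sum.elim_inr, neg_smul, Finset.sum_neg_distrib]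
    rw [add_neg_eq_zero]
    exact hev.symm
  obtain ⟨S, hS, hS'⟩ := ModSiteFlat.exists_cover_solution (ModSiteFlat.hasLocalTriv_of_isFlat hN) Y T B hrel
  refine ⟨S, hS, fun V g hg => ?_⟩
  obtain ⟨r, t, c, ht, hc⟩ := hS' g hg
  refine ⟨r, t, fun i => c (Sum.inl i), fun i => ht (Sum.inl i), fun l => ?_⟩
  have hK : ∀ e, ∑ x ∈ T, (O.obj.map g.op).hom ((k e).1 x) • rmap M g x = 0 := fun e => by
    have h : ∑ x ∈ T, (k e).1 x • x = 0 := by
      refine Eq.trans (Eq.symm ?_) (k e).2
      rw [Finsupp.linearCombination_apply, Finsupp.sum]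
      exact Finset.sum_subset (fun x hx => Finset.mem_union_right _
        (Finset.mem_biUnion.mpr ⟨e, Finset.mem_univ e, hx⟩)) fun x _ hx => by
          rw [Finsupp.notMem_support_iff.mp hx, zero_smul]
    have h' := congrArg (rmap M g) h
    rw [map_sum, map_zero] at h'
    exact (Finset.sum_congr rfl fun x _ => (rmap_smul M g _ _).symm).trans h'
  have hsum : ∑ x ∈ T, (∑ j, (O.obj.map g.op).hom (B x j) * c j l) • rmap M g x = 0 :=
    Finset.sum_eq_zero fun x hx => by rw [hc x hx l, zero_smul]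
  simp only [Fintype.sum_sum_type, B, Sum.elim_inl, Sum.elim_inr, add_smul, Finset.sum_smul,
    Finset.sum_add_distrib, map_neg, neg_mul, neg_smul, Finset.sum_neg_distrib] at hsum
  rw [Finset.sum_comm (s := T), Finset.sum_comm (s := T)] at hsum
  rw [Finset.sum_eq_zero (f := fun e => ∑ x ∈ T, ((O.obj.map g.op).hom ((k e).1 x) * c (Sum.inr e) l) •
    rmap M g x) (fun e _ => by
      refine Eq.trans (Finset.sum_congr rfl fun x _ => ?_) ((Finset.smul_sum
        (r := c (Sum.inr e) l) (f := fun x => (O.obj.map g.op).hom ((k e).1 x) • rmap M g x) (s := T)).symm.trans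
          (by rw [hK e, smul_zero]))
      rw [smul_smul, mul_comm]), neg_zero, add_zero] at hsum
  refine Eq.trans (Finset.sum_congr rfl fun i _ => ?_) hsum
  rw [Finset.sum_eq_single (m i) (fun x _ hx => by simp [Finsupp.single_eq_of_ne hx])
    (fun h => absurd (Finset.mem_union_left _ (Finset.mem_image.mpr ⟨i, Finset.mem_univ i, rfl⟩)) h)]
  rw [Finsupp.single_eq_same, map_one, one_mul]

/-- a vanishing sum of pure tensors is locally a consequence of linear relations -/
theorem exists_relation (hN : ModSite.IsFlat N) {U : C} {κ : Type} [Fintype κ]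
    (m : κ → ModSite.sect M U) (h : κ → ModSite.sect N U) (h0 : ∑ k, tm (m k) (h k) = 0) :
    ∃ S ∈ J U, ∀ ⦃V : C⦄ (g : V ⟶ U), S g → ∃ (r : ℕ) (t : Fin r → ModSite.sect N V)
      (c : κ → Fin r → O.obj.obj (op V)), (∀ k, rmap N g (h k) = ∑ l, c k l • t l) ∧
        ∀ l, ∑ k, c k l • rmap M g (m k) = 0 := by
  haveI := ModSiteTensor.unit_locallyInjective O (pten M N)
  let A := (O.obj.obj (op U) : Type u)
  let z : ModSite.sect M U ⊗[A] ModSite.sect N U := ∑ k, m k ⊗ₜ[A] h k
  let η := ModSiteTensor.η O (pten M N)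
  have hz : η.app (op U) z = η.app (op U) (0 : ModSite.sect M U ⊗[A] ModSite.sect N U) :=
    ((map_sum (η.app (op U)).hom _ _).trans h0).trans (map_zero (η.app (op U)).hom).symm
  have hcov := Presheaf.equalizerSieve_mem J ((PresheafOfModules.toPresheaf _).map η) (X := op U) z
    (0 : ModSite.sect M U ⊗[A] ModSite.sect N U) hz
  choose S hS hS' using fun (V : C) (g : V ⟶ U)
      (hg : Presheaf.equalizerSieve (F := (pten M N).presheaf) (X := op U) z
        (0 : ModSite.sect M U ⊗[A] ModSite.sect N U) g) =>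
    exists_relation_of_tmul_eq_zero hN (fun k => rmap M g (m k)) (fun k => rmap N g (h k)) (by
      refine Eq.trans ?_ (Eq.trans hg (map_zero ((pten M N).presheaf.map g.op).hom))
      refine Eq.trans ?_ (map_sum ((pten M N).presheaf.map g.op).hom _ _).symm
      exact Finset.sum_congr rfl fun k _ => rfl)
  refine ⟨Sieve.bind _ fun V g hg => S V g hg, J.bind_covering hcov fun V g hg => hS V g hg, ?_⟩
  rintro W _ ⟨V, k, g, hg, hk, rfl⟩
  obtain ⟨r, t, c, ht, hc⟩ := hS' V g hg k hk
  exact ⟨r, t, c, fun j => (rmap_comp N g k _).trans (ht j),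
    fun l => (Finset.sum_congr rfl fun j _ => by rw [rmap_comp M g k]).trans (hc l)⟩

/-- finitely many vanishing sums with common second factors -/
theorem exists_relations (hN : ModSite.IsFlat N) {U : C} {κ : Type} [Fintype κ]
    {ε : Type*} (T : Finset ε) (m : ε → κ → ModSite.sect M U) (h : κ → ModSite.sect N U)
    (h0 : ∀ e ∈ T, ∑ k, tm (m e k) (h k) = 0) :
    ∃ S ∈ J U, ∀ ⦃V : C⦄ (g : V ⟶ U), S g → ∃ (r : ℕ) (t : Fin r → ModSite.sect N V)
      (c : κ → Fin r → O.obj.obj (op V)), (∀ k, rmap N g (h k) = ∑ l, c k l • t l) ∧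
        ∀ e ∈ T, ∀ l, ∑ k, c k l • rmap M g (m e k) = 0 := by
  classical
  induction T using Finset.induction with
  | empty =>
    refine ⟨⊤, J.top_mem U, fun V g _ => ⟨Fintype.card κ, fun l => rmap N g (h ((Fintype.equivFin κ).symm l)),
      fun j l => if Fintype.equivFin κ j = l then 1 else 0, fun j => ?_, fun e he => absurd he (by simp)⟩⟩
    rw [Finset.sum_eq_single (Fintype.equivFin κ j) (fun l _ hl => by simp [Ne.symm hl]) (by simp)]
    simp
  | insert e T he ih =>
    obtain ⟨S₁, hS₁, h₁⟩ := ih fun e' he' => h0 e' (Finset.mem_insert_of_mem he')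
    choose r t c ht hc using h₁
    have hrel : ∀ ⦃V : C⦄ (g : V ⟶ U) (hg : S₁ g),
        ∑ l, tm (∑ k, c g hg k l • rmap M g (m e k)) (t g hg l) = 0 := fun V g hg => by
      have h' := congrArg (rmap (ten M N) g) (h0 e (Finset.mem_insert_self e T))
      rw [map_sum, map_zero] at h'
      refine Eq.trans ?_ h'
      simp only [rmap_tm, ht g hg, tm_sum_left, tm_sum_right, tm_smul_left, tm_smul_right]
      exact Finset.sum_comm
    choose S₂ hS₂ h₂ using fun (V : C) (g : V ⟶ U) (hg : S₁ g) => exists_relation hN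
      (fun l => ∑ k, c g hg k l • rmap M g (m e k)) (t g hg) (hrel g hg)
    refine ⟨Sieve.bind S₁ fun V g hg => S₂ V g hg, J.bind_covering hS₁ fun V g hg => hS₂ V g hg, ?_⟩
    rintro W _ ⟨V, k, g, hg, hk, rfl⟩
    obtain ⟨l', t', a, ha, ha0⟩ := h₂ V g hg k hk
    refine ⟨l', t', fun j q => ∑ l, (O.obj.map k.op).hom (c g hg j l) * a l q, fun j => ?_, fun e' he' q => ?_⟩
    · rw [rmap_comp, ht g hg j, rmap_sum_smul]
      refine (Finset.sum_congr rfl fun l _ => congrArg (fun z => (O.obj.map k.op).hom (c g hg j l) • z) (ha l)).trans ?_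
      simp only [Finset.smul_sum, smul_smul, Finset.sum_smul]
      exact Finset.sum_comm
    · have key : ∑ j, (∑ l, (O.obj.map k.op).hom (c g hg j l) * a l q) • rmap M (k ≫ g) (m e' j) =
          ∑ l, a l q • rmap M k (∑ j, c g hg j l • rmap M g (m e' j)) := by
        simp only [rmap_sum_smul, ← rmap_comp, Finset.smul_sum, smul_smul, Finset.sum_smul, mul_comm (a _ _)]
        exact Finset.sum_comm
      refine key.trans ?_
      rcases Finset.mem_insert.mp he' with rfl | he''
      · exact ha0 q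
      · exact Finset.sum_eq_zero fun l _ => by rw [hc g hg e' he'' l, map_zero, smul_zero]

end Groth.Agent.ModHomEl
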