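import Groth.Agent.ModHomEl.Pres

/-!
The canonical map `Hom(F, G) ⊗ H ⟶ Hom(F, G ⊗ H)` is an isomorphism for `F` of finite presentation
and `H` flat.
-/

set_option backward.isDefEq.respectTransparency false
set_option backward.isDefEq.respectTransparency.types false
set_option linter.style.haveILetI false
set_option autoImplicit false
set_option maxHeartbeats 1000000

universe u

open CategoryTheory Category Limits Opposite TensorProduct

namespace Groth.Agent.ModHomEl

open Groth.Agent.ModSiteFlat (rmap rmap_comp rmap_smul rmap_sum_smul)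
open Groth.Agent.PullFlat (sect_ext sect_glue Loc)

attribute [local instance] ModSiteFlat.instModuleSect

variable {C : Type u} [SmallCategory C] {J : GrothendieckTopology C} {O : Sheaf J CommRingCat.{u}}
  (F G H : ModSite.Mod O) [ModSite.HasSheafHom F]

variable {G H} in
/-- tensoring with a section -/
noncomputable def tmR {U : C} (h : ModSite.sect H U) :
    (ModSite.restr O U).obj G ⟶ (ModSite.restr O U).obj (ten G H) :=
  ⟨PresheafOfModules.homMk
    { app := fun V => AddCommGrpCat.ofHom (AddMonoidHom.mk'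
        (fun x : ModSite.sect G V.unop.left => tm x (rmap H V.unop.hom h))
        fun x y => tm_add_left (M := G) (N := H) x y _)
      naturality := fun V W k => AddCommGrpCat.ext fun x => by
        change tm (rmap G k.unop.left x) (rmap H W.unop.hom h) =
          rmap (ten G H) k.unop.left (tm x (rmap H V.unop.hom h))
        rw [rmap_tm, ← rmap_comp, Over.w] }
    fun V r x => tm_smul_left (M := G) (N := H) r x _⟩

variable {F G H}

lemma exists_thetaSect {U : C} (s : ModSite.sect (hom F G) U) (h : ModSite.sect H U) :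
    ∃ t : ModSite.sect (hom F (ten G H)) U, ∀ {V : C} (g : V ⟶ U) (x : ModSite.sect F V),
      ev (rmap (hom F (ten G H)) g t) x = tm (ev (rmap (hom F G) g s) x) (rmap H g h) := by
  obtain ⟨t, ht⟩ := exists_sect (toMor s ≫ tmR h)
  exact ⟨t, fun g x => (ht g x).trans rfl⟩

/-- `s ⊗ h` as a section of `Hom(F, G ⊗ H)` -/
noncomputable def thetaSect {U : C} (s : ModSite.sect (hom F G) U) (h : ModSite.sect H U) :
    ModSite.sect (hom F (ten G H)) U :=
  (exists_thetaSect s h).choose

lemma ev_thetaSect {U V : C} (g : V ⟶ U) (s : ModSite.sect (hom F G) U) (h : ModSite.sect H U)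
    (x : ModSite.sect F V) :
    ev (rmap (hom F (ten G H)) g (thetaSect s h)) x = tm (ev (rmap (hom F G) g s) x) (rmap H g h) :=
  (exists_thetaSect s h).choose_spec g x

variable (F G H)

/-- the bilinear map -/
noncomputable def thetaBil (U : C) :
    ModSite.sect (hom F G) U →ₗ[(O.obj.obj (op U) : Type u)] ModSite.sect H U →ₗ[(O.obj.obj (op U) : Type u)]
      ModSite.sect (hom F (ten G H)) U :=
  LinearMap.mk₂ _ thetaSect
    (fun s s' h => hom_sect_ext fun g x => by
      rw [map_add, ev_add_left, ev_thetaSect, ev_thetaSect, ev_thetaSect, map_add, ev_add_left, tm_add_left])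
    (fun a s h => hom_sect_ext fun g x => by
      rw [rmap_smul, ev_smul_left, ev_thetaSect, ev_thetaSect, rmap_smul, ev_smul_left, tm_smul_left])
    (fun s h h' => hom_sect_ext fun g x => by
      rw [map_add, ev_add_left, ev_thetaSect, ev_thetaSect, ev_thetaSect, map_add, tm_add_right])
    (fun a s h => hom_sect_ext fun g x => by
      rw [rmap_smul, ev_smul_left, ev_thetaSect, ev_thetaSect, rmap_smul, tm_smul_right])

lemma rmap_thetaSect {U V : C} (k : V ⟶ U) (s : ModSite.sect (hom F G) U) (h : ModSite.sect H U) :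
    rmap (hom F (ten G H)) k (thetaSect s h) = thetaSect (rmap (hom F G) k s) (rmap H k h) :=
  hom_sect_ext fun g x => by rw [← rmap_comp, ev_thetaSect, ev_thetaSect, ← rmap_comp, ← rmap_comp]

/-- the map on presheaves -/
noncomputable def thetaPre : pten (hom F G) H ⟶ (ModSiteExt.toPM O).obj (hom F (ten G H)) :=
  PresheafOfModules.homMk
    { app := fun V => AddCommGrpCat.ofHom (TensorProduct.lift (thetaBil F G H V.unop)).toAddMonoidHom
      naturality := fun V W k => AddCommGrpCat.ext fun z => by
        change ModSite.sect (hom F G) V.unop ⊗[(O.obj.obj V : Type u)] ModSite.sect H V.unop at z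
        induction z using TensorProduct.induction_on with
        | zero =>
          simp only [ConcreteCategory.comp_apply]
          exact ((congrArg _ (map_zero _)).trans (map_zero _)).trans
            ((congrArg _ (map_zero _)).trans (map_zero _)).symm
        | tmul s h => exact (rmap_thetaSect F G H k.unop s h).symm
        | add z z' hz hz' =>
          simp only [ConcreteCategory.comp_apply] at hz hz' ⊢
          erw [map_add, map_add, map_add, map_add]
          exact congrArg₂ (· + ·) hz hz' }
    fun V r z => map_smul (TensorProduct.lift (thetaBil F G H V.unop)) r z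

/-- the canonical map `Hom(F, G) ⊗ H ⟶ Hom(F, G ⊗ H)` -/
noncomputable def theta : ten (hom F G) H ⟶ hom F (ten G H) :=
  ((PresheafOfModules.sheafificationAdjunction.{u} (R := ModSite.ringSh O)
    (𝟙 (ModSite.ringSh O).obj)).homEquiv (pten (hom F G) H) (hom F (ten G H))).symm (thetaPre F G H)

variable {F G H}

lemma theta_tm {U : C} (s : ModSite.sect (hom F G) U) (h : ModSite.sect H U) :
    (theta F G H).val.app (op U) (tm s h) = thetaSect s h := by
  let adj := PresheafOfModules.sheafificationAdjunction.{u} (R := ModSite.ringSh O) (𝟙 (ModSite.ringSh O).obj)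
  have e := congrArg (fun ψ => ψ.app (op U) (s ⊗ₜ[(O.obj.obj (op U) : Type u)] h))
    ((Adjunction.homEquiv_unit (adj := adj) (pten (hom F G) H) (hom F (ten G H)) (theta F G H)).symm.trans
      (Equiv.apply_symm_apply _ (thetaPre F G H)))
  exact e

lemma ev_theta_sum {U : C} {κ : Type} [Fintype κ] (s : κ → ModSite.sect (hom F G) U) (h : κ → ModSite.sect H U)
    (x : ModSite.sect F U) :
    ev ((theta F G H).val.app (op U) (∑ k, tm (s k) (h k))) x = ∑ k, tm (ev (s k) x) (h k) := by
  have h1 : (theta F G H).val.app (op U) (∑ k, tm (s k) (h k)) = ∑ k, thetaSect (s k) (h k) :=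
    (map_sum ((theta F G H).val.app (op U)).hom _ _).trans (Finset.sum_congr rfl fun k _ => theta_tm _ _)
  rw [h1, ev_sum_left]
  refine Finset.sum_congr rfl fun k _ => ?_
  have := ev_thetaSect (𝟙 U) (s k) (h k) x
  rwa [rmap_id, rmap_id, rmap_id] at this

lemma rmap_theta {U V : C} (g : V ⟶ U) (z : ModSite.sect (ten (hom F G) H) U) :
    rmap (hom F (ten G H)) g ((theta F G H).val.app (op U) z) =
      (theta F G H).val.app (op V) (rmap (ten (hom F G) H) g z) :=
  (PresheafOfModules.naturality_apply (theta F G H).val g.op z).symm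

omit [ModSite.HasSheafHom F] in
lemma finset_inf_covering {U : C} {σ : Type*} (T : Finset σ) (S : σ → Sieve U) (hS : ∀ j, S j ∈ J U) :
    T.inf S ∈ J U := by
  classical
  induction T using Finset.induction with
  | empty => exact J.top_mem _
  | insert a T _ ih => rw [Finset.inf_insert]; exact J.intersection_covering (hS a) ih

variable (hH : ModSite.IsFlat H) {ι : Type u} {X : ι → C} (hX : J.CoversTop X)
  (P : ∀ i, PresData F (X i))

include hH hX P

theorem theta_injective {U : C} (z : ModSite.sect (ten (hom F G) H) U)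
    (hz : (theta F G H).val.app (op U) z = 0) : z = 0 := by
  refine sect_ext (Loc.mono (?_ : Loc J U fun _ g => rmap (ten (hom F G) H) g z = 0) fun V g h => by
    rw [show ModSiteFlat.rmap (ten (hom F G) H) g (0 : ModSite.sect (ten (hom F G) H) U) = 0 from map_zero _]
    exact h)
  refine PullFlat.Loc.bind ⟨_, hX U, fun V g hg => hg⟩ ?_
  intro V g hg
  obtain ⟨i, ⟨k⟩⟩ := (Sieve.mem_ofObjects_iff ..).mp hg
  obtain ⟨S, hS, hS'⟩ := exists_sum_tm (rmap (ten (hom F G) H) g z)
  refine PullFlat.Loc.bind ⟨S, hS, fun W a ha => ha⟩ ?_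
  intro W a ha
  obtain ⟨n, s, h, hsum⟩ := hS' a ha
  letI := (P i).finσ
  have h0 : ∀ j ∈ (Finset.univ : Finset (P i).σ),
      ∑ l, tm (ev (s l) (rmap F (a ≫ k) ((P i).e j))) (h l) = 0 := fun j _ => by
    rw [← ev_theta_sum, ← hsum, ← rmap_comp, ← rmap_theta, hz, map_zero, ev_zero_left]
  obtain ⟨T, hT, hT'⟩ := exists_relations hH Finset.univ
    (fun j l => ev (s l) (rmap F (a ≫ k) ((P i).e j))) h h0
  refine ⟨T, hT, fun W' b hb => ?_⟩
  obtain ⟨r, t, c, ht, hc⟩ := hT' b hb
  have key : ∀ q, ∑ l, c l q • rmap (hom F G) b (s l) = 0 := fun q => by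
    refine (P i).sep G (b ≫ a ≫ k) _ 0 fun j => ?_
    rw [ev_zero_left, ev_sum_left, ← hc j (Finset.mem_univ j) q]
    refine Finset.sum_congr rfl fun l _ => ?_
    rw [ev_smul_left, rmap_ev, ← rmap_comp]
  change rmap _ ((b ≫ a) ≫ g) z = 0
  rw [assoc, rmap_comp, rmap_comp, hsum, map_sum]
  simp only [rmap_tm, ht, tm_sum_right, tm_smul_right, ← tm_smul_left]
  rw [Finset.sum_comm]
  exact Finset.sum_eq_zero fun q _ => by rw [← tm_sum_left, key q, tm_zero_left]

theorem theta_locally_surjective {U : C} (t : ModSite.sect (hom F (ten G H)) U) :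
    Loc J U fun V g => ∃ z : ModSite.sect (ten (hom F G) H) V,
      (theta F G H).val.app (op V) z = rmap (hom F (ten G H)) g t := by
  refine PullFlat.Loc.bind ⟨_, hX U, fun V g hg => hg⟩ ?_
  intro V g hg
  obtain ⟨i, ⟨k⟩⟩ := (Sieve.mem_ofObjects_iff ..).mp hg
  letI := (P i).finσ
  classical
  choose S hS hS' using fun j : (P i).σ =>
    exists_sum_tm (ev (rmap (hom F (ten G H)) g t) (rmap F k ((P i).e j)))
  refine PullFlat.Loc.bind ⟨Finset.univ.inf S, finset_inf_covering Finset.univ S hS, fun W a ha => ha⟩ ?_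
  intro W a ha
  have hle : ∀ j, Finset.univ.inf S ≤ S j := fun j => Finset.inf_le (Finset.mem_univ j)
  choose n m h hsum using fun j => hS' j a (hle j _ ha)
  let ε := Fintype.equivFin (P i).σ
  let κ := Σ j' : Fin (Fintype.card (P i).σ), Fin (n (ε.symm j'))
  let hh : κ → ModSite.sect H W := fun q => h (ε.symm q.1) q.2
  let mm : (P i).σ → κ → ModSite.sect G W := fun j q => if q.1 = ε j then m (ε.symm q.1) q.2 else 0
  have hval : ∀ j, ev (rmap (hom F (ten G H)) (a ≫ g) t) (rmap F (a ≫ k) ((P i).e j)) =
      ∑ q, tm (mm j q) (hh q) := fun j => by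
    rw [rmap_comp, rmap_comp, ← rmap_ev, hsum j, Fintype.sum_sigma]
    rw [Finset.sum_eq_single (ε j) (fun j' _ hj' => Finset.sum_eq_zero fun q _ => by
      simp only [mm, if_neg hj']; exact tm_zero_left _) (by simp)]
    simp only [mm, hh, if_pos]
    rw [Equiv.symm_apply_apply]
  letI := (P i).finρ
  have h0 : ∀ l ∈ (Finset.univ : Finset (P i).ρ),
      ∑ q, tm (∑ j, (O.obj.map (a ≫ k).op).hom ((P i).r l j) • mm j q) (hh q) = 0 := fun l _ => by
    simp only [tm_sum_left, tm_smul_left]
    rw [Finset.sum_comm]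
    simp only [← Finset.smul_sum, ← hval, ← ev_smul_right]
    have := congrArg (rmap F (a ≫ k)) ((P i).rel l)
    rw [rmap_sum_smul, map_zero] at this
    refine ((map_sum (AddMonoidHom.mk' (fun x => ev (rmap (hom F (ten G H)) (a ≫ g) t) x)
      fun x y => ev_add_right _ x y) _ _).symm.trans (congrArg _ this)).trans (map_zero _)
  obtain ⟨T, hT, hT'⟩ := exists_relations hH Finset.univ
    (fun l q => ∑ j, (O.obj.map (a ≫ k).op).hom ((P i).r l j) • mm j q) hh h0
  refine ⟨T, hT, fun W' b hb => ?_⟩
  obtain ⟨r, t', c, ht', hc⟩ := hT' b hb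
  have hex : ∀ p : Fin r, ∃ s : ModSite.sect (hom F G) W', ∀ j,
      ev s (rmap F (b ≫ a ≫ k) ((P i).e j)) = ∑ q, c q p • rmap G b (mm j q) := fun p => by
    refine (P i).exists_sec G (b ≫ a ≫ k) _ fun l => ?_
    refine Eq.trans ?_ (hc l (Finset.mem_univ l) p)
    simp only [rmap_sum_smul, Finset.smul_sum, smul_smul]
    rw [Finset.sum_comm]
    refine Finset.sum_congr rfl fun q _ => Finset.sum_congr rfl fun j _ => ?_
    have hmap : (O.obj.map (b ≫ a ≫ k).op).hom ((P i).r l j) =
        (O.obj.map b.op).hom ((O.obj.map (a ≫ k).op).hom ((P i).r l j)) :=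
      ConcreteCategory.congr_hom (O.obj.map_comp (a ≫ k).op b.op) _
    rw [hmap, mul_comm]
  choose s hs using hex
  refine ⟨∑ p, tm (s p) (t' p), (P i).sep (ten G H) (b ≫ a ≫ k) _ _ fun j => ?_⟩
  rw [ev_theta_sum, assoc, rmap_comp (hom F (ten G H)) (a ≫ g) b, rmap_comp F (a ≫ k) b, ← rmap_ev, hval j, map_sum]
  simp only [← rmap_comp, hs, rmap_tm, ht', tm_sum_left, tm_sum_right, tm_smul_left, tm_smul_right]
  exact Finset.sum_comm

theorem isIso_theta : IsIso (theta F G H) := by
  have hinj : ∀ U : C, Function.Injective ((theta F G H).val.app (op U)) := fun U z z' h =>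
    sub_eq_zero.mp (theta_injective hH hX P _ ((map_sub ((theta F G H).val.app (op U)).hom z z').trans
      (sub_eq_zero.mpr h)))
  have hb : ∀ U : C, Function.Bijective ((theta F G H).val.app (op U)) := fun U => by
    refine ⟨hinj U, fun t => ?_⟩
    obtain ⟨S, hS, hS'⟩ := theta_locally_surjective hH hX P t
    choose x hx using hS'
    obtain ⟨z, hz⟩ := sect_glue (G := ten (hom F G) H) hS x fun U₁ U₂ g hg u => hinj U₂ (by
      rw [← rmap_theta, hx, hx, rmap_comp])
    exact ⟨z, sect_ext ⟨S, hS, fun V g hg =>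
      (rmap_theta g z).trans ((congrArg _ (hz g hg)).trans (hx g hg))⟩⟩
  haveI : ∀ U, IsIso ((SheafOfModules.forget _).map (theta F G H) |>.app U) := fun U =>
    (ConcreteCategory.isIso_iff_bijective _).2 (hb U.unop)
  haveI : IsIso ((PresheafOfModules.toPresheaf _).map ((SheafOfModules.forget _).map (theta F G H))) :=
    @NatIso.isIso_of_isIso_app _ _ _ _ _ _ _ fun U =>
      inferInstanceAs (IsIso ((forget₂ _ AddCommGrpCat).map (((SheafOfModules.forget _).map (theta F G H)).app U)))
  haveI : IsIso ((SheafOfModules.forget _).map (theta F G H)) :=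
    isIso_of_reflects_iso _ (PresheafOfModules.toPresheaf _)
  exact isIso_of_reflects_iso (theta F G H) (SheafOfModules.forget _)

omit hH hX P in
/-- **`Hom(F, G) ⊗ H ≅ Hom(F, G ⊗ H)`** for `F` finitely presented and `H` flat -/
theorem nonempty_homTensorIso [F.IsFinitePresentation] (hH : ModSite.IsFlat H) :
    Nonempty (ten (hom F G) H ≅ hom F (ten G H)) := by
  obtain ⟨ι, X, hX, hP⟩ := exists_cover_presData (F := F)
  haveI := isIso_theta (G := G) hH hX (fun i => (hP i).some)
  exact ⟨asIso (theta F G H)⟩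

end Groth.Agent.ModHomEl
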