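import Groth.Agent.ModHomEl.Local
import Groth.Agent.ModSiteFlat.LocalFactor

/-!
Sections of the internal hom out of a locally finitely presented module through generators and relations.
-/

set_option backward.isDefEq.respectTransparency false
set_option backward.isDefEq.respectTransparency.types false
set_option linter.style.haveILetI false
set_option autoImplicit false
set_option maxHeartbeats 1000000

universe u

open CategoryTheory Category Limits Opposite

namespace Groth.Agent.ModHomEl

open Groth.Agent.ModSiteFlat (rmap rmap_comp rmap_smul rmap_sum_smul homEv coeff genVal)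

attribute [local instance] ModSiteFlat.instModuleSect

variable {C : Type u} [SmallCategory C] {J : GrothendieckTopology C} {O : Sheaf J CommRingCat.{u}}
  (F : ModSite.Mod O) [ModSite.HasSheafHom F]

lemma rmap_id (M : ModSite.Mod O) {U : C} (x : ModSite.sect M U) : rmap M (𝟙 U) x = x :=
  ConcreteCategory.congr_hom (M.val.presheaf.map_id (op U)) x

/-- generators and relations presenting the internal hom out of `F` on all objects over `U` -/
structure PresData (U : C) where
  σ : Type u
  ρ : Type u
  finσ : Fintype σ
  finρ : Fintype ρ
  e : σ → ModSite.sect F U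
  r : ρ → σ → O.obj.obj (op U)
  rel : ∀ l, (letI := finσ; ∑ j, r l j • e j) = 0
  sep : ∀ (G : ModSite.Mod O) {V : C} (k : V ⟶ U) (s t : ModSite.sect (hom F G) V),
    (∀ j, ev s (rmap F k (e j)) = ev t (rmap F k (e j))) → s = t
  exists_sec : ∀ (G : ModSite.Mod O) {V : C} (k : V ⟶ U) (y : σ → ModSite.sect G V),
    (∀ l, (letI := finσ; ∑ j, (O.obj.map k.op).hom (r l j) • y j) = 0) →
      ∃ s : ModSite.sect (hom F G) V, ∀ j, ev s (rmap F k (e j)) = y j

variable {F}

omit [ModSite.HasSheafHom F] in
/-- value of a further restricted map out of the unit -/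
lemma homEv_om {U V : C} (k : V ⟶ U)
    (w : SheafOfModules.unit ((ModSite.ringSh O).over U) ⟶ (ModSite.restr O U).obj F) :
    homEv (S := (ModSite.ringSh O).over V)
      ((SheafOfModules.overMap.{u} (ModSite.ringSh O) k).obj ((ModSite.restr O U).obj F))
      ((SheafOfModules.overMap.{u} (ModSite.ringSh O) k).map w) = rmap F k (homEv _ w) := by
  refine (ModSiteFlat.homEv_overMap k w).trans ?_
  change F.val.map ((𝟙 V) ≫ k).op _ = _
  rw [id_comp]
  rfl

/-- data of a finite presentation on a slice -/
theorem nonempty_presData {U : C}
    (p : SheafOfModules.Presentation (R := (ModSite.ringSh O).over U) ((ModSite.restr O U).obj F)) [p.IsFinite] :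
    Nonempty (PresData F U) := by
  classical
  haveI : Finite p.generators.I := SheafOfModules.GeneratingSections.IsFiniteType.finite
  haveI : Finite p.relations.I := SheafOfModules.GeneratingSections.IsFiniteType.finite
  cases nonempty_fintype p.generators.I
  cases nonempty_fintype p.relations.I
  obtain ⟨f, hw, ⟨hcok⟩⟩ := ModSiteFlat.exists_cokernel_data p
  let R := ModSite.ringSh O
  let e : p.generators.I → ModSite.sect F U := fun j => genVal O F p.generators.π j
  have hval : ∀ {V : C} (k : V ⟶ U) (j : p.generators.I),
      homEv (S := R.over V) ((SheafOfModules.overMap.{u} R k).obj ((ModSite.restr O U).obj F))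
        ((SheafOfModules.overMap.{u} R k).map (SheafOfModules.ιFree j ≫ p.generators.π)) = rmap F k (e j) :=
    fun k j => homEv_om k _
  refine ⟨{
    σ := p.generators.I
    ρ := p.relations.I
    finσ := inferInstance
    finρ := inferInstance
    e := e
    r := fun l j => coeff O f l j
    rel := fun l => ModSiteFlat.sum_coeff_smul f p.generators.π hw l
    sep := ?_
    exists_sec := ?_ }⟩
  · intro G V k s t h
    let OM := SheafOfModules.overMap.{u} R k
    haveI : PreservesColimitsOfSize.{u, u} OM :=
      ModSiteFlat.preservesColimits_pushforward (F := Over.map k) _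
    haveI : PreservesColimitsOfSize.{0, 0} OM := preservesSmallestColimits_of_preservesColimits _
    haveI : OM.Additive := { map_add := rfl }
    let Gv : SheafOfModules.{u} (R.over V) := (ModSite.restr O V).obj G
    obtain ⟨-, huniq⟩ := ModSiteFlat.exists_desc OM f p.generators.π hw hcok
      (fun _ => (0 : OM.obj (SheafOfModules.unit (R.over U)) ⟶ Gv)) fun l => by simp
    have hm : toMor s = toMor t := by
      refine huniq (toMor s) (toMor t) fun j => (homEv Gv).injective ?_
      refine ((ModSiteFlat.homEv_comp _ _).trans (congrArg _ (hval k j))).trans ?_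
      refine Eq.trans ?_ ((ModSiteFlat.homEv_comp _ _).trans (congrArg _ (hval k j))).symm
      change appAt (toMor s) (𝟙 V) _ = appAt (toMor t) (𝟙 V) _
      rw [appAt_toMor, appAt_toMor, rmap_id, rmap_id]
      exact h j
    exact hom_sect_ext fun g x => by rw [← appAt_toMor, ← appAt_toMor, hm]
  · intro G V k y hy
    let OM := SheafOfModules.overMap.{u} R k
    haveI : PreservesColimitsOfSize.{u, u} OM :=
      ModSiteFlat.preservesColimits_pushforward (F := Over.map k) _
    haveI : PreservesColimitsOfSize.{0, 0} OM := preservesSmallestColimits_of_preservesColimits _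
    haveI : OM.Additive := { map_add := rfl }
    let Gv : SheafOfModules.{u} (R.over V) := (ModSite.restr O V).obj G
    let T : (Over V)ᵒᵖ := op (Over.mk (𝟙 V))
    let wj : p.generators.I → (SheafOfModules.unit (R.over V) ⟶ Gv) := fun j => (homEv Gv).symm (y j)
    have hcoef : ∀ l j, (show (R.over V).obj.obj T from
        homEv (SheafOfModules.unit (R.over V)) (OM.map (SheafOfModules.ιFree l ≫ f ≫ ModSiteFlat.proj j))) =
          (O.obj.map k.op).hom (coeff O f l j) := fun l j => by
      refine (ModSiteFlat.homEv_overMap k _).trans ?_
      change (O.obj.map ((𝟙 V) ≫ k).op).hom (coeff O f l j) = _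
      rw [id_comp]
    obtain ⟨⟨a, ha⟩, -⟩ := ModSiteFlat.exists_desc OM f p.generators.π hw hcok (fun j => wj j) fun l => by
      apply (homEv Gv).injective
      refine (ModSiteFlat.homEv_sum _).trans (Eq.trans ?_ (ModSiteFlat.homEv_zero Gv).symm)
      refine Eq.trans (Finset.sum_congr rfl fun j _ => ?_) (hy l)
      refine (ModSiteFlat.homEv_comp (M := SheafOfModules.unit (R.over V)) _ (wj j)).trans ?_
      refine (ModSiteFlat.unit_app_smul (wj j) _).trans ?_
      exact congrArg₂ (· • ·) (hcoef l j) (Equiv.apply_symm_apply (homEv Gv) _)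
    obtain ⟨s, hs⟩ := exists_sect (F := F) (G := G) a
    refine ⟨s, fun j => ?_⟩
    have h1 := congrArg (homEv Gv) (ha j)
    rw [Equiv.apply_symm_apply] at h1
    refine Eq.trans ?_ h1
    refine Eq.trans ?_ ((ModSiteFlat.homEv_comp (N := Gv) (OM.map (SheafOfModules.ιFree j ≫ p.generators.π)) a).trans
      (congrArg (fun z => a.val.app T z) (hval k j))).symm
    refine Eq.trans ?_ (hs (𝟙 V) (rmap F k (e j)))
    rw [rmap_id]

/-- a finitely presented module has such data on a cover -/
theorem exists_cover_presData [F.IsFinitePresentation] :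
    ∃ (ι : Type u) (X : ι → C), J.CoversTop X ∧ ∀ i, Nonempty (PresData F (X i)) := by
  obtain ⟨q, hq⟩ := SheafOfModules.IsFinitePresentation.exists_quasicoherentData F
  exact ⟨q.I, q.X, q.coversTop, fun i => haveI := hq.isFinite_presentation i; nonempty_presData (q.presentation i)⟩

end Groth.Agent.ModHomEl
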